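import Groth.Agent.Lib.AlgSt.UnivClosedDVR.Topo
import Groth.Agent.Lib.AlgSt.LocQ
import Groth.Agent.Lib.FibCat.SliceRepr
import Groth.Agent.Lib.FibCat.FpFibred

/-!
# Base change of charts of categories over a scheme
-/

set_option backward.isDefEq.respectTransparency false
set_option backward.isDefEq.respectTransparency.types false

universe u

open CategoryTheory CategoryTheory.Limits AlgebraicGeometry Opposite

namespace GrothLib.AlgSt.UnivClosedDVR

open _root_.AlgSt GrothLib.FibCat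

variable {S : Scheme.{u}}

/-- Slices are thin over every morphism of the base. -/
theorem overCat_thin {T : Over S} {a b : (_root_.FibCat.overCat T).obj} (φ ψ : a ⟶ b) {R R' : Over S} (g : R ⟶ R')
    [(_root_.FibCat.overCat T).p.IsHomLift g φ] [(_root_.FibCat.overCat T).p.IsHomLift g ψ] : φ = ψ :=
  Over.OverMorphism.ext ((IsHomLift.fac' (_root_.FibCat.overCat T).p g φ).trans
    (IsHomLift.fac' (_root_.FibCat.overCat T).p g ψ).symm)

/-- In a fibre product over a slice, lifts of one morphism of the base are morphisms. -/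
theorem fp_w_of_lifts {T : Over S} {𝒜 ℬ : _root_.AlgSt.Cat S} {F : 𝒜 ⥤ᵇ _root_.FibCat.overCat T}
    {G : ℬ ⥤ᵇ _root_.FibCat.overCat T} (A B : (_root_.FibCat.fp F G).obj) (f : A.obj.fst ⟶ B.obj.fst)
    (g : A.obj.snd ⟶ B.obj.snd) {R R' : Over S} (d : R ⟶ R') (hf : 𝒜.p.IsHomLift d f)
    (hg : ℬ.p.IsHomLift d g) : F.map f ≫ B.obj.iso.hom = A.obj.iso.hom ≫ G.map g := by
  obtain ⟨i₁, i₂⟩ := Fp.compat d f g
  exact overCat_thin _ _ d

/-- Composites of maps of slices. -/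
def sliceSquareIso {W T U V : Over S} {q : W ⟶ T} {p : W ⟶ U} {c : T ⟶ V} {h : U ⟶ V} (e : q ≫ c = p ≫ h) :
    BasedFunctor.comp (_root_.AlgSt.overMap q) (_root_.AlgSt.overMap c) ≅
      BasedFunctor.comp (_root_.AlgSt.overMap p) (_root_.AlgSt.overMap h) :=
  natIsoOfComponents (fun a => Over.isoMk (Iso.refl a.left) (by
      change 𝟙 _ ≫ (a.hom ≫ p) ≫ h = (a.hom ≫ q) ≫ c
      simp [e]))
    (fun a => IsHomLift.of_fac' (_root_.FibCat.overCat V).p _ _ rfl rfl (by simp; rfl))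
    (fun {a b} φ => Over.OverMorphism.ext ((Category.comp_id φ.left).trans (Category.id_comp φ.left).symm))

/-- The pullback of schemes as a fibre product of slices. -/
def slicePair {W T U V : Over S} {q : W ⟶ T} {p : W ⟶ U} {c : T ⟶ V} {h : U ⟶ V} (e : q ≫ c = p ≫ h) :
    _root_.FibCat.overCat W ⥤ᵇ _root_.FibCat.fp (_root_.AlgSt.overMap c) (_root_.AlgSt.overMap h) :=
  _root_.FibCat.fpLift (_root_.AlgSt.overMap q) (_root_.AlgSt.overMap p) (sliceSquareIso e)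

theorem isEquivOver_slicePair {W T U V : Over S} {q : W ⟶ T} {p : W ⟶ U} {c : T ⟶ V} {h : U ⟶ V}
    (sq : IsPullback q p c h) : _root_.FibCat.IsEquivOver (slicePair sq.w) := by
  refine FFEssSurjOver.isEquivOver ⟨?_, ?_, fun η => ?_⟩
  · refine ⟨fun {a b} ψ => ?_⟩
    have h' : ψ.hom.snd.left = ψ.hom.fst.left := by
      have : ψ.hom.fst.left ≫ 𝟙 b.left = 𝟙 a.left ≫ ψ.hom.snd.left := congrArg CommaMorphism.left (Fp.w ψ)
      exact ((this.trans (Category.id_comp _)).symm.trans (Category.comp_id _))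
    refine ⟨Over.homMk ψ.hom.fst.left (sq.hom_ext ?_ ?_), Fp.hom_ext (Over.OverMorphism.ext rfl)
      (Over.OverMorphism.ext h'.symm)⟩
    · have := Over.w ψ.hom.fst
      rw [Category.assoc]; exact this
    · have := Over.w ψ.hom.snd
      rw [h'] at this
      rw [Category.assoc]; exact this
  · exact ⟨fun {a b φ ψ} h => Over.OverMorphism.ext (congrArg (fun t => t.hom.fst.left) h :)⟩
  · have hη := Fp.iso_lift η
    have hs : η.obj.snd.left = η.obj.fst.left := Fp.snd_proj η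
    have := overCat_hom_eq η.obj.iso.hom (R := (_root_.FibCat.overCat T).p.obj η.obj.fst) hs.symm
    let l : η.obj.fst.left ⟶ W :=
      sq.lift η.obj.fst.hom (eqToHom hs.symm ≫ η.obj.snd.hom) (by
        rw [Category.assoc]; exact this)
    refine ⟨Over.mk l, Fp.isoMk (Over.isoMk (Iso.refl _) ?_) (Over.isoMk (eqToIso hs.symm) ?_) ?_, ?_⟩
    · change 𝟙 _ ≫ η.obj.fst.hom = l ≫ q
      simp [l]
    · change eqToHom hs.symm ≫ η.obj.snd.hom = l ≫ p
      simp [l]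
    · apply Over.OverMorphism.ext
      have h1 := map_eq_eqToHom (_root_.FibCat.overCat V).p (R := (_root_.FibCat.overCat T).p.obj η.obj.fst)
        η.obj.iso.hom
      change 𝟙 _ ≫ η.obj.iso.hom.left = 𝟙 _ ≫ eqToHom hs.symm
      simp only [Category.id_comp]
      exact h1
    · exact (Fp.isHomLift_iff _ _).2 (IsHomLift.of_fac' (_root_.FibCat.overCat T).p _ _ rfl rfl (by simp; rfl))

variable {𝒲 : _root_.AlgSt.Cat S} {T₁ U : Over S} (π : 𝒲 ⥤ᵇ _root_.FibCat.overCat T₁)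
  (x : _root_.FibCat.overCat U ⥤ᵇ 𝒲) {h : U ⟶ T₁} (α : BasedFunctor.comp x π ≅ _root_.AlgSt.overMap h)

/-- The pullback scheme as the fibre product with the chart. -/
def chartPair {W T₂ : Over S} {a : T₂ ⟶ T₁} {q : W ⟶ T₂} {p : W ⟶ U} (e : q ≫ a = p ≫ h) :
    _root_.FibCat.overCat W ⥤ᵇ _root_.FibCat.fp (_root_.AlgSt.overMap a) (BasedFunctor.comp x π) :=
  BasedFunctor.comp (slicePair e) (Fp.congr (Iso.refl _) α.symm)

/-- The base change of a chart. -/
def bcChart {W T₂ : Over S} {a : T₂ ⟶ T₁} {q : W ⟶ T₂} {p : W ⟶ U} (e : q ≫ a = p ≫ h) :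
    _root_.FibCat.overCat W ⥤ᵇ _root_.FibCat.fp (_root_.AlgSt.overMap a) π :=
  BasedFunctor.comp (chartPair π x α e) (rightMap x (_root_.AlgSt.overMap a) π)

theorem smoothSurj_bcChart (hx : SmoothSurj x) {W T₂ : Over S} {a : T₂ ⟶ T₁} {q : W ⟶ T₂} {p : W ⟶ U}
    (sq : IsPullback q p a h) : SmoothSurj (bcChart π x α sq.w) :=
  (hx.rightMap _ π).equiv_comp (chartPair π x α sq.w)
    (IsEquivOver.comp (isEquivOver_slicePair sq) (Fp.isEquivOver_congr _ _))

theorem bcChart_fst {W T₂ : Over S} {a : T₂ ⟶ T₁} {q : W ⟶ T₂} {p : W ⟶ U} (e : q ≫ a = p ≫ h) (w : ↥W.left) :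
    pointOf (Points.map (_root_.FibCat.fpFst (_root_.AlgSt.overMap a) π) (Points.ofChart (bcChart π x α e) w)) =
      q.left w := by
  rw [← ofChart_comp]
  refine (congrArg pointOf (?_ : _ = Points.ofChart
    (BasedFunctor.comp (_root_.AlgSt.overMap q) (BasedFunctor.id (_root_.FibCat.overCat T₂))) w)).trans ?_
  · rfl
  · rw [ofChart_overMap, pointOf_ofChart_id]

theorem bcChart_snd {W T₂ : Over S} {a : T₂ ⟶ T₁} {q : W ⟶ T₂} {p : W ⟶ U} (e : q ≫ a = p ≫ h) (w : ↥W.left) :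
    Points.map (_root_.FibCat.fpSnd (_root_.AlgSt.overMap a) π) (Points.ofChart (bcChart π x α e) w) =
      Points.ofChart x (p.left w) := by
  rw [← ofChart_comp, ← ofChart_overMap]
  rfl

/-- The map between base changes along a map of test schemes. -/
def bcMap {T₂ T₃ : Over S} {a : T₂ ⟶ T₁} {b : T₃ ⟶ T₂} {c : T₃ ⟶ T₁} (hc : c = b ≫ a) :
    _root_.FibCat.fp (_root_.AlgSt.overMap c) π ⥤ᵇ _root_.FibCat.fp (_root_.AlgSt.overMap a) π :=
  _root_.FibCat.fpLift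
    (BasedFunctor.comp (_root_.FibCat.fpFst (_root_.AlgSt.overMap c) π) (_root_.AlgSt.overMap b))
    (_root_.FibCat.fpSnd (_root_.AlgSt.overMap c) π)
    (whiskerLeftIso (_root_.FibCat.fpFst (_root_.AlgSt.overMap c) π)
        ((overMapCompIso b a) ≪≫ eqToIso (congrArg _root_.AlgSt.overMap hc.symm)) ≪≫
      _root_.FibCat.fpIso (_root_.AlgSt.overMap c) π)

theorem bcMap_fst {T₂ T₃ : Over S} {a : T₂ ⟶ T₁} {b : T₃ ⟶ T₂} {c : T₃ ⟶ T₁} (hc : c = b ≫ a)
    (P : Points (_root_.FibCat.fp (_root_.AlgSt.overMap c) π)) :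
    pointOf (Points.map (_root_.FibCat.fpFst _ π) (Points.map (bcMap π hc) P)) =
      b.left (pointOf (Points.map (_root_.FibCat.fpFst _ π) P)) := by
  obtain ⟨o, rfl⟩ := Points.mk_surjective P
  generalize hz : Points.map (_root_.FibCat.fpFst (_root_.AlgSt.overMap c) π) (Points.mk o) = z
  refine (congrArg pointOf (show _ = Points.map (_root_.AlgSt.overMap b) z from hz ▸ rfl)).trans ?_
  conv_lhs => rw [map_eq_ofChart_pointOf]
  rw [show Points.ofChart (_root_.AlgSt.overMap b) (pointOf z) =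
    Points.ofChart (BasedFunctor.id (_root_.FibCat.overCat T₂)) (b.left (pointOf z)) from
    ofChart_overMap b (BasedFunctor.id (_root_.FibCat.overCat T₂)) _, pointOf_ofChart_id]

/-- Base changes of charts commute with maps of test schemes, before projecting. -/
def chartPairIso {W₂ W₃ T₂ T₃ : Over S} {a : T₂ ⟶ T₁} {b : T₃ ⟶ T₂} {c : T₃ ⟶ T₁} (hc : c = b ≫ a)
    {q₂ : W₂ ⟶ T₂} {p₂ : W₂ ⟶ U} (e₂ : q₂ ≫ a = p₂ ≫ h) {q₃ : W₃ ⟶ T₃} {p₃ : W₃ ⟶ U} (e₃ : q₃ ≫ c = p₃ ≫ h)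
    (ψ : W₃ ⟶ W₂) (hp : ψ ≫ p₂ = p₃) (hq : ψ ≫ q₂ = q₃ ≫ b) :
    BasedFunctor.comp (_root_.AlgSt.overMap ψ) (chartPair π x α e₂) ≅
      BasedFunctor.comp (chartPair π x α e₃) (bcMap (BasedFunctor.comp x π) hc) :=
  natIsoOfComponents
    (fun s => Fp.isoMk (a := (chartPair π x α e₂).obj ((_root_.AlgSt.overMap ψ).obj s))
      (b := (bcMap (BasedFunctor.comp x π) hc).obj ((chartPair π x α e₃).obj s))
      (Over.isoMk (Iso.refl _) (by
        change 𝟙 _ ≫ (s.hom ≫ q₃) ≫ b = (s.hom ≫ ψ) ≫ q₂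
        simp [hq]))
      (Over.isoMk (Iso.refl _) (by
        change 𝟙 _ ≫ s.hom ≫ p₃ = (s.hom ≫ ψ) ≫ p₂
        simp [hp]))
      (by
        have l₁ : (_root_.FibCat.overCat T₂).p.IsHomLift (𝟙 s.left) (Over.isoMk (Iso.refl s.left) (by
            change 𝟙 _ ≫ (s.hom ≫ q₃) ≫ b = (s.hom ≫ ψ) ≫ q₂
            simp [hq]) : ((_root_.AlgSt.overMap q₂).obj ((_root_.AlgSt.overMap ψ).obj s)) ≅
              ((_root_.AlgSt.overMap b).obj ((_root_.AlgSt.overMap q₃).obj s))).hom :=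
          IsHomLift.of_fac' (_root_.FibCat.overCat T₂).p _ _ rfl rfl (by simp; rfl)
        have l₂ : (_root_.FibCat.overCat U).p.IsHomLift (𝟙 s.left) (Over.isoMk (Iso.refl s.left) (by
            change 𝟙 _ ≫ s.hom ≫ p₃ = (s.hom ≫ ψ) ≫ p₂
            simp [hp]) : ((_root_.AlgSt.overMap p₂).obj ((_root_.AlgSt.overMap ψ).obj s)) ≅
              ((_root_.AlgSt.overMap p₃).obj s)).hom :=
          IsHomLift.of_fac' (_root_.FibCat.overCat U).p _ _ rfl rfl (by simp; rfl)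
        exact fp_w_of_lifts _ _ _ _ (𝟙 s.left) l₁ l₂))
    (fun s => (Fp.isHomLift_iff _ _).2
      (IsHomLift.of_fac' (_root_.FibCat.overCat T₂).p _ _ rfl rfl (by simp; rfl)))
    (fun {s s'} φ => Fp.hom_ext
      (Over.OverMorphism.ext ((Category.comp_id _).trans (Category.id_comp _).symm))
      (Over.OverMorphism.ext ((Category.comp_id _).trans (Category.id_comp _).symm)))

/-- Base changes of charts commute with maps of test schemes. -/
theorem bcMap_bcChart {W₂ W₃ T₂ T₃ : Over S} {a : T₂ ⟶ T₁} {b : T₃ ⟶ T₂} {c : T₃ ⟶ T₁} (hc : c = b ≫ a)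
    {q₂ : W₂ ⟶ T₂} {p₂ : W₂ ⟶ U} (e₂ : q₂ ≫ a = p₂ ≫ h) {q₃ : W₃ ⟶ T₃} {p₃ : W₃ ⟶ U} (e₃ : q₃ ≫ c = p₃ ≫ h)
    (ψ : W₃ ⟶ W₂) (hp : ψ ≫ p₂ = p₃) (hq : ψ ≫ q₂ = q₃ ≫ b) (w : ↥W₃.left) :
    Points.map (bcMap π hc) (Points.ofChart (bcChart π x α e₃) w) =
      Points.ofChart (bcChart π x α e₂) (ψ.left w) := by
  rw [bcChart, bcChart, ofChart_comp, ofChart_comp, ← ofChart_overMap,
    ofChart_congr (chartPairIso π x α hc e₂ e₃ ψ hp hq), ofChart_comp]
  generalize Points.ofChart (chartPair π x α e₃) w = O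
  obtain ⟨o, rfl⟩ := Points.mk_surjective O
  refine Points.sound (rel_of_hom (r := (o.map (rightMap x (_root_.AlgSt.overMap c) π)).map (bcMap π hc))
    (p := (o.map (bcMap (BasedFunctor.comp x π) hc)).map (rightMap x (_root_.AlgSt.overMap a) π))
    (Fp.homMk (𝟙 _) (𝟙 _) ?_))
  exact fp_w_of_lifts (F := _root_.AlgSt.overMap a) (G := π)
    ((bcMap π hc).obj ((rightMap x (_root_.AlgSt.overMap c) π).obj o.obj))
    ((rightMap x (_root_.AlgSt.overMap a) π).obj ((bcMap (BasedFunctor.comp x π) hc).obj o.obj)) _ _ (𝟙 _)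
    (IsHomLift.id rfl) (IsHomLift.id (Fp.snd_proj ((bcMap π hc).obj ((rightMap x (_root_.AlgSt.overMap c) π).obj o.obj))))

/-- Lifting of points along base changes of charts. -/
theorem exists_lift (h𝒲 : _root_.FibCat.IsFibGrpd 𝒲.p) {W₂ W₃ T₂ T₃ : Over S} {a : T₂ ⟶ T₁} {b : T₃ ⟶ T₂}
    {c : T₃ ⟶ T₁} (hc : c = b ≫ a) {q₂ : W₂ ⟶ T₂} {p₂ : W₂ ⟶ U} (sq₂ : IsPullback q₂ p₂ a h)
    {q₃ : W₃ ⟶ T₃} {p₃ : W₃ ⟶ U} (sq₃ : IsPullback q₃ p₃ c h) (ψ : W₃ ⟶ W₂) (hp : ψ ≫ p₂ = p₃)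
    (hq : ψ ≫ q₂ = q₃ ≫ b) (P : Points (_root_.FibCat.fp (_root_.AlgSt.overMap c) π)) (w₂ : ↥W₂.left)
    (hP : Points.map (bcMap π hc) P = Points.ofChart (bcChart π x α sq₂.w) w₂) :
    ∃ w₃ : ↥W₃.left, Points.ofChart (bcChart π x α sq₃.w) w₃ = P ∧ ψ.left w₃ = w₂ := by
  have gT := isFibGrpd_overCat (C := Over S)
  have g3 : _root_.FibCat.IsFibGrpd (_root_.FibCat.fp (_root_.AlgSt.overMap c) π).p :=
    Fp.isFibGrpd (gT T₃) h𝒲 (gT T₁)
  have g2 : _root_.FibCat.IsFibGrpd (_root_.FibCat.fp (_root_.AlgSt.overMap a) (BasedFunctor.comp x π)).p :=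
    Fp.isFibGrpd (gT T₂) (gT U) (gT T₁)
  let R := rightMap x (_root_.AlgSt.overMap a) π
  let O := Points.ofChart (chartPair π x α sq₂.w) w₂
  obtain ⟨Z, hZ1, hZ2⟩ := exists_points_fp g2 g3 (Fp.isFibGrpd (gT T₂) h𝒲 (gT T₁)) R (bcMap π hc) P O
    (hP.trans rfl)
  let Θ : _root_.FibCat.fp (bcMap π hc) R ⥤ᵇ
      _root_.FibCat.fp (_root_.AlgSt.overMap c) (BasedFunctor.comp x π) :=
    _root_.FibCat.fpLift
      (BasedFunctor.comp (_root_.FibCat.fpFst (bcMap π hc) R) (_root_.FibCat.fpFst (_root_.AlgSt.overMap c) π))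
      (BasedFunctor.comp (_root_.FibCat.fpSnd (bcMap π hc) R) (_root_.FibCat.fpSnd _ (BasedFunctor.comp x π)))
      (whiskerLeftIso (_root_.FibCat.fpFst (bcMap π hc) R) (_root_.FibCat.fpIso (_root_.AlgSt.overMap c) π) ≪≫
        whiskerRightIso (whiskerRightIso (_root_.FibCat.fpIso (bcMap π hc) R) (_root_.FibCat.fpSnd _ π)) π)
  have hE : _root_.FibCat.IsEquivOver (chartPair π x α sq₃.w) :=
    IsEquivOver.comp (isEquivOver_slicePair sq₃) (Fp.isEquivOver_congr _ _)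
  have hE₂ : _root_.FibCat.IsEquivOver (chartPair π x α sq₂.w) :=
    IsEquivOver.comp (isEquivOver_slicePair sq₂) (Fp.isEquivOver_congr _ _)
  obtain ⟨r, hr⟩ := (points_map_bijective_of_isEquivOver (gT W₃) _ hE).2 (Points.map Θ Z)
  have hr' : Points.ofChart (chartPair π x α sq₃.w) (pointOf r) = Points.map Θ Z :=
    (map_eq_ofChart_pointOf _ r).symm.trans hr
  refine ⟨pointOf r, ?_, ?_⟩
  · rw [bcChart, ofChart_comp, hr', ← hZ1]
    obtain ⟨o, rfl⟩ := Points.mk_surjective Z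
    refine Points.sound (rel_of_hom (r := (o.map Θ).map (rightMap x (_root_.AlgSt.overMap c) π))
      (p := o.map (_root_.FibCat.fpFst (bcMap π hc) R))
      (Fp.homMk (𝟙 _) (Fp.isoSnd o.obj.obj.iso).inv ?_))
    erw [map_refl_iso (F' := _root_.AlgSt.overMap c) (G' := π) (BasedFunctor.id _) x ((o.map Θ).obj)]
    change (_root_.AlgSt.overMap c).map (𝟙 _) ≫ o.obj.obj.fst.obj.iso.hom =
      (o.obj.obj.fst.obj.iso.hom ≫ π.map (Fp.isoSnd o.obj.obj.iso).hom) ≫ π.map (Fp.isoSnd o.obj.obj.iso).inv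
    rw [Category.assoc, ← π.map_comp, Iso.hom_inv_id, π.map_id]
    erw [(_root_.AlgSt.overMap c).map_id, Category.comp_id, Category.id_comp]
  · let j := chartPairIso π x α hc sq₂.w sq₃.w ψ hp hq
    have inj := (points_map_bijective_of_isEquivOver (gT W₂) _ hE₂).1
    have h1 : Points.ofChart (chartPair π x α sq₂.w) (ψ.left (pointOf r)) = O := by
      rw [← ofChart_overMap, ofChart_congr j, ofChart_comp, hr', ← hZ2]
      obtain ⟨o, rfl⟩ := Points.mk_surjective Z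
      refine Points.sound (rel_of_hom (r := (o.map Θ).map (bcMap (BasedFunctor.comp x π) hc))
        (p := o.map (_root_.FibCat.fpSnd (bcMap π hc) R))
        (Fp.homMk (Fp.isoFst o.obj.obj.iso).hom (𝟙 _) ?_))
      exact fp_w_of_lifts (F := _root_.AlgSt.overMap a) (G := BasedFunctor.comp x π)
        ((bcMap (BasedFunctor.comp x π) hc).obj (Θ.obj o.obj)) o.obj.obj.snd _ _ (𝟙 _) ((Fp.isHomLift_iff _ _).1 (Fp.iso_lift o.obj))
        (IsHomLift.id ((Fp.snd_proj o.obj.obj.snd).trans (Fp.snd_proj o.obj)))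
    have h2 := inj ((ofChart_eq_map _ _).symm.trans (h1.trans (ofChart_eq_map _ _)))
    simpa only [pointOf_ofChart_id] using congrArg pointOf h2

end GrothLib.AlgSt.UnivClosedDVR
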