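import Groth.Agent.Lib.AlgSt.LocQ

/-!
# Reading a chart property on any smooth square, for stacks in any topology
-/

set_option backward.isDefEq.respectTransparency false
set_option backward.isDefEq.respectTransparency.types false

universe u

open CategoryTheory CategoryTheory.Limits AlgebraicGeometry Opposite

namespace GrothLib.AlgSt

open _root_.AlgSt GrothLib.FibCat

variable {S : Scheme.{u}} {𝒳 𝒴 : _root_.AlgSt.Cat S} {P : MorphismProperty (AlgSp.Sp S)}

/-- The chart condition implies the property on every square whose map to the fibre product is smooth. -/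
theorem mem_of_locQ_of_isFibGrpd (hP : AlgSp.IsSmoothLocalST P) {f : 𝒳 ⥤ᵇ 𝒴} (hq : LocQ P f)
    (h𝒳 : _root_.FibCat.IsFibGrpd 𝒳.p) (h𝒴 : _root_.FibCat.IsFibGrpd 𝒴.p) {U V : Over S}
    (y : _root_.FibCat.overCat V ⥤ᵇ 𝒴) (hy : RepByAlgSpWith (AlgSp.LocP @Smooth) y)
    (l : _root_.FibCat.overCat U ⥤ᵇ _root_.FibCat.fp f y) (hl : RepByAlgSpWith (AlgSp.LocP @Smooth) l) (h : U ⟶ V)
    (β : BasedFunctor.comp l (_root_.FibCat.fpSnd f y) ≅ _root_.AlgSt.overMap h) :
    P ((AlgSp.yon S).map h) := by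
  obtain ⟨U₀, V₀, x₀, y₀, h₀, α₀, hx₀, hx₀', hy₀, hh₀⟩ := hq
  obtain ⟨G, e, he⟩ := repByAlgSp1_of_repByAlgSpWith hy₀ V y
  let bV := spMapOfOver (BasedFunctor.comp e (_root_.FibCat.fpFst y y₀))
  let d := spMapOfOver (BasedFunctor.comp e (_root_.FibCat.fpSnd y y₀))
  have hbV : AlgSp.LocP @Smooth bV := HasRep.mem (hy₀ V y) isoInvariant_locP G e he
  have hd : AlgSp.LocP @Smooth d := HasRep.mem (hy V₀ y₀) isoInvariant_locP G (BasedFunctor.comp e (Fp.symm y y₀))
    (IsEquivOver.comp he (Fp.isEquivOver_symm y y₀))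
  obtain ⟨x₁, hx₁, ⟨j₁⟩⟩ := exists_chart_baseChange h𝒴 (isFibGrpd_overCat V) h𝒳 f y x₀ y₀ h₀
    α₀ ⟨hx₀, hx₀'⟩ e (SmoothSurj.isEquivOver e he)
  let hm := (AlgSp.yon S).map h₀
  have hT := GrothLib.AlgSp.isAlgSpace_pullback' (AlgSp.IsAlgSpace.yon_obj V₀) G.property
    (AlgSp.IsAlgSpace.yon_obj U₀) d hm
  let t₁ := pullback.fst d hm
  have ht₁ : P t₁ := hP.baseChange (AlgSp.IsAlgSpace.yon_obj U₀) (AlgSp.IsAlgSpace.yon_obj V₀) hT G.property hm d t₁
    (pullback.snd d hm) (IsPullback.of_hasPullback d hm).flip hd hh₀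
  let T : AlgSp.Space S := ⟨_, hT⟩
  let M' := BasedFunctor.comp x₁ (Fp.symm y f)
  have hM' : SmoothSurj M' := hx₁.comp_equiv _ (Fp.isEquivOver_symm y f)
  obtain ⟨F, eF, heF, hsm, hsu⟩ := repByAlgSpWith_inf isoInvariant_locP hM'.1 hM'.2 U l
  let a := spMapOfOver (BasedFunctor.comp eF (_root_.FibCat.fpFst l M'))
  let Φ := BasedFunctor.comp eF (_root_.FibCat.fpSnd l M')
  let k : F.obj ⟶ T.obj := spHom Φ
  have hk : AlgSp.LocP @Smooth k :=
    mem_of_repByAlgSpWith (f := l) compStable_locP_smooth.detected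
      isoInvariant_locP hl M' T (BasedFunctor.id _) (IsEquivOver.refl _) F (BasedFunctor.comp eF (Fp.symm l M'))
      (IsEquivOver.comp heF (Fp.isEquivOver_symm l M')) k (isoOfSpHom Φ)
  have hPk : P (k ≫ t₁) := hP.precomp F.property hT G.property k t₁ hk ht₁
  have h1 : spMapOfOver (BasedFunctor.comp M' (_root_.FibCat.fpSnd f y)) = t₁ ≫ bV :=
    (spMapOfOver_congr j₁).trans (spMapOfOver_ofSpMap_comp _ _)
  have key : a ≫ (AlgSp.yon S).map h = (k ≫ t₁) ≫ bV := by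
    have e1 : spMapOfOver (BasedFunctor.comp (BasedFunctor.comp eF (_root_.FibCat.fpFst l M'))
        (_root_.AlgSt.overMap h)) = spMapOfOver (BasedFunctor.comp Φ (BasedFunctor.comp M' (_root_.FibCat.fpSnd f y))) :=
      spMapOfOver_congr (whiskerLeftIso (BasedFunctor.comp eF (_root_.FibCat.fpFst l M')) β.symm ≪≫
        whiskerRightIso (whiskerLeftIso eF (_root_.FibCat.fpIso l M')) (_root_.FibCat.fpSnd f y))
    rw [spMapOfOver_comp_overMap] at e1
    refine e1.trans ?_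
    rw [spMapOfOver_comp, h1, Category.assoc]
  refine (hP.locality (AlgSp.IsAlgSpace.yon_obj U) (AlgSp.IsAlgSpace.yon_obj V) _).2 fun u => ?_
  obtain ⟨v, hv⟩ := hsu u
  exact ⟨F.obj, G.obj, a, bV, k ≫ t₁, v, F.property, G.property, hsm, hbV, key, hv, hPk⟩

end GrothLib.AlgSt
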