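import Groth.Agent.Lib.AlgSt.UnivClosedDVR.Dvr
import Groth.Agent.Lib.AlgSt.UnivClosedDVR.LocQAny
import Groth.Agent.Lib.AlgSp.UnivClosedTest
import Groth.Agent.Lib.AlgSp.Valuative
import Groth.Agent.Lib.AlgSp.SmoothLocalLocP
import Groth.Agent.Lib.AlgSt.LocQChart
import Groth.Agent.Lib.AlgSt.Gerbe.Props

/-!
# Closedness over affine schemes of finite type charts
-/

set_option backward.isDefEq.respectTransparency false
set_option backward.isDefEq.respectTransparency.types false

universe u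

open CategoryTheory CategoryTheory.Limits AlgebraicGeometry Opposite TensorProduct

namespace GrothLib.AlgSt.UnivClosedDVR

open _root_.AlgSt GrothLib.FibCat GrothLib.AlgSp

variable {S : Scheme.{u}} {𝒳 𝒴 : _root_.AlgSt.Cat S}

set_option maxHeartbeats 1600000 in
/-- Over an affine scheme over a noetherian affine chart the base change is closed. -/
theorem closedOver_affine (h𝒳 : IsAlgStack Scheme.etalePrecoverage 𝒳) (h𝒴 : IsAlgStack Scheme.etalePrecoverage 𝒴)
    (f : 𝒳 ⥤ᵇ 𝒴) (hqc : IsQuasiCompactMor Scheme.etalePrecoverage f)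
    (hft : LocQ (AlgSp.LocP @LocallyOfFiniteType) f) (hval : DVRLifting f) {R : Type u} [CommRing R]
    [IsNoetherianRing R] (str : Spec (CommRingCat.of R) ⟶ S)
    (y₀ : _root_.FibCat.overCat (Over.mk str) ⥤ᵇ 𝒴) (hy₀ : RepByAlgSpWith (AlgSp.LocP @Smooth) y₀)
    (C : Type u) [CommRing C] [Algebra R C] :
    ClosedOver f (BasedFunctor.comp (_root_.AlgSt.overMap (specHom str C)) y₀) := by
  have hV := isAlgStack_overCat_jet (Over.mk str)
  have hVqc : IsQuasiCompact (_root_.FibCat.overCat (Over.mk str)) :=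
    ⟨Over.mk str, BasedFunctor.id _, inferInstanceAs (IsAffine (Spec (CommRingCat.of R))),
      repByAlgSpWith_id locP_smooth_id _, repByAlgSpWith_id (fun _ => isSurjectiveMor_id _) _⟩
  obtain ⟨U, x, hU, hxs, hxj⟩ := hqc _ hV hVqc y₀
  haveI := hU
  let π₀ := _root_.FibCat.fpFst y₀ f
  let h : U ⟶ Over.mk str := sliceHom (BasedFunctor.comp x π₀)
  let α : BasedFunctor.comp x π₀ ≅ _root_.AlgSt.overMap h := isoOverMap _
  have hlft : LocallyOfFiniteType h.left := by
    refine left_of_locP_yon (mem_of_locQ_of_isFibGrpd isSmoothLocalST_lft hft h𝒳.isStack.1 h𝒴.isStack.1 y₀ hy₀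
      (BasedFunctor.comp x (Fp.symm y₀ f)) (repByAlgSpWith_comp_equiv _ (Fp.isEquivOver_symm y₀ f) hxs) h ?_)
    exact α
  obtain ⟨φB, hφB⟩ : ∃ φB : CommRingCat.of R ⟶ Γ(U.left, ⊤), U.left.isoSpec.inv ≫ h.left = Spec.map φB :=
    ⟨Spec.preimage _, (Spec.map_preimage _).symm⟩
  letI : Algebra R Γ(U.left, ⊤) := φB.hom.toAlgebra
  let B := Γ(U.left, ⊤)
  let eB : specOver str B ≅ U := Over.isoMk U.left.isoSpec.symm (by
    change U.left.isoSpec.inv ≫ U.hom = Spec.map φB ≫ str
    rw [← hφB, Category.assoc]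
    exact congrArg (fun z => U.left.isoSpec.inv ≫ z) (Over.w h).symm)
  have heB : eB.hom ≫ h = specHom str B := Over.OverMorphism.ext hφB
  have square : ∀ (D : Type u) [CommRing D] [Algebra R D],
      IsPullback (specMap str (Algebra.TensorProduct.includeRight : D →ₐ[R] B ⊗[R] D))
        (specMap str (Algebra.TensorProduct.includeLeft : B →ₐ[R] B ⊗[R] D) ≫ eB.hom) (specHom str D) h := by
    intro D _ _
    have sc : IsPullback (specMap str (Algebra.TensorProduct.includeRight : D →ₐ[R] B ⊗[R] D))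
        (specMap str (Algebra.TensorProduct.includeLeft : B →ₐ[R] B ⊗[R] D)) (specHom str D) (specHom str B) := by
      refine IsPullback.of_map_of_faithful (Over.forget S) ?_
      show IsPullback (Spec.map _) (Spec.map _) (Spec.map _) (Spec.map _)
      exact (isPullback_SpecMap_of_isPushout _ _ _ _ (CommRingCat.isPushout_tensorProduct R B D)).flip
    exact sc.of_iso (Iso.refl _) (Iso.refl _) eB (Iso.refl _) (by simp) (by simp) (by simp) (by simp [heB])
  have hx : SmoothSurj x := ⟨hxs, hxj⟩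
  have hfp : IsAlgStack Scheme.etalePrecoverage (_root_.FibCat.fp y₀ f) :=
    isAlgStack_fp_of h𝒴.isStack h𝒴.diag hV h𝒳 y₀ f
  have hP : ∀ T (c : T ⟶ Over.mk str),
      IsAlgStack Scheme.etalePrecoverage (_root_.FibCat.fp (_root_.AlgSt.overMap c) π₀) := fun T c =>
    isAlgStack_fp_of hV.isStack hV.diag (isAlgStack_overCat_jet T) hfp _ π₀
  let wC := bcChart π₀ x α (square C).w
  let qC := specMap str (Algebra.TensorProduct.includeRight : C →ₐ[R] B ⊗[R] C)
  let F := fun P : Points (_root_.FibCat.fp (_root_.AlgSt.overMap (specHom str C)) π₀) =>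
    pointOf (Points.map (_root_.FibCat.fpFst (_root_.AlgSt.overMap (specHom str C)) π₀) P)
  have hwC := smoothSurj_bcChart π₀ x α hx (square C)
  suffices key : IsClosedMap F by
    refine closedOver_of_bijective f _ (Points.map (Fp.paste f y₀ (_root_.AlgSt.overMap (specHom str C))))
      (continuous_map_of_isAlgStack (hP _ _)
        (isAlgStack_fp_of h𝒴.isStack h𝒴.diag (isAlgStack_overCat_jet _) h𝒳 _ f) _)
      (points_map_bijective_of_isEquivOver (hP _ _).isStack.1 _ (Fp.isEquivOver_paste f y₀ _)).2 (fun a => ?_) key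
    obtain ⟨o, rfl⟩ := Points.mk_surjective a
    rfl
  intro E hE
  have hwcont := continuous_ofChart (hP _ (specHom str C)).isStack.1 (hP _ (specHom str C)).atlas wC
  obtain ⟨J, hJ⟩ : ∃ J : Ideal (B ⊗[R] C), ∀ z : PrimeSpectrum (B ⊗[R] C),
      Points.ofChart wC z ∈ E ↔ J ≤ z.asIdeal := by
    obtain ⟨J, hJ⟩ := (PrimeSpectrum.isClosed_iff_zeroLocus_ideal (R := B ⊗[R] C) (Points.ofChart wC ⁻¹' E)).1
      (hE.preimage hwcont)
    refine ⟨J, fun z => ?_⟩
    exact (Set.ext_iff.1 hJ z).trans (PrimeSpectrum.mem_zeroLocus z _)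
  have himg : F '' E = qC.left '' (Points.ofChart wC ⁻¹' E) := by
    conv_lhs => rw [← (surjective_ofChart (hP _ _).isStack.1 hwC.2).image_preimage E, Set.image_image]
    exact Set.image_congr' fun w => bcChart_fst π₀ x α (square C).w w
  rw [himg]
  haveI : IsAffine (specOver str (B ⊗[R] C)).left := inferInstanceAs (IsAffine (Spec (CommRingCat.of (B ⊗[R] C))))
  haveI : IsAffine (specOver str C).left := inferInstanceAs (IsAffine (Spec (CommRingCat.of C)))
  refine GrothLib.AlgSp.isClosed_image_of_affine qC.left (hE.preimage hwcont) ?_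
  rintro t t' htt' ⟨z, hz, rfl⟩
  by_contra ht'
  obtain ⟨G, k, s, hk, hs, hks⟩ := AffineTest.exists_witness J (t' : PrimeSpectrum C).asIdeal
    fun P hP hJP hPt => ht' ⟨(⟨P, hP⟩ : PrimeSpectrum (B ⊗[R] C)), (hJ ⟨P, hP⟩).2 hJP, PrimeSpectrum.ext hPt⟩
  let A := MvPolynomial G R
  let ψ : A →ₐ[R] C := MvPolynomial.aeval (fun c : G => (c : C))
  let Ψ : B ⊗[R] A →ₐ[R] B ⊗[R] C := Algebra.TensorProduct.map (AlgHom.id R B) ψ
  have hΨ : Ψ k ∈ J := by
    have hΨ' : ∀ v, Ψ v = Algebra.TensorProduct.map (AlgHom.id B B) ψ v := fun v => by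
      induction v with
      | zero => simp
      | add x y hx hy => simp only [map_add, hx, hy]
      | tmul b c => rfl
    rw [hΨ' k]
    exact hk
  let qA := specMap str (Algebra.TensorProduct.includeRight : A →ₐ[R] B ⊗[R] A)
  let tA : PrimeSpectrum A := PrimeSpectrum.comap ψ.toRingHom t'
  have contra : ∀ b : PrimeSpectrum (B ⊗[R] A), k ∈ b.asIdeal → qA.left b ≠ tA := by
    intro b hb hbt
    have hbt' : PrimeSpectrum.comap (Algebra.TensorProduct.includeRight : A →ₐ[R] B ⊗[R] A).toRingHom b = tA := hbt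
    have hle : ((t' : PrimeSpectrum C).asIdeal.comap ψ).map
        (Algebra.TensorProduct.includeRight : A →ₐ[R] B ⊗[R] A) ≤ b.asIdeal :=
      Ideal.map_le_iff_le_comap.2 (congrArg PrimeSpectrum.asIdeal hbt').ge
    have h1 := sub_mem hb (hle hks)
    rw [sub_sub_cancel] at h1
    exact hs ((congrArg PrimeSpectrum.asIdeal hbt').le h1)
  let zA : PrimeSpectrum (B ⊗[R] A) := (specMap str Ψ).left z
  have hΨq : specMap str Ψ ≫ qA = qC ≫ specMap str ψ := by
    apply Over.OverMorphism.ext
    change Spec.map _ ≫ Spec.map _ = Spec.map _ ≫ Spec.map _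
    rw [← Spec.map_comp, ← Spec.map_comp]
    refine congrArg Spec.map (CommRingCat.hom_ext (RingHom.ext fun c => ?_))
    show Ψ ((1 : B) ⊗ₜ[R] c) = (1 : B) ⊗ₜ[R] ψ c
    simp [Ψ]
  have hΨp : specMap str Ψ ≫ specMap str (Algebra.TensorProduct.includeLeft : B →ₐ[R] B ⊗[R] A) ≫ eB.hom =
      specMap str (Algebra.TensorProduct.includeLeft : B →ₐ[R] B ⊗[R] C) ≫ eB.hom := by
    rw [← Category.assoc]
    congr 1
    apply Over.OverMorphism.ext
    change Spec.map _ ≫ Spec.map _ = Spec.map _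
    rw [← Spec.map_comp]
    refine congrArg Spec.map (CommRingCat.hom_ext (RingHom.ext fun b => ?_))
    show Ψ (b ⊗ₜ[R] (1 : A)) = b ⊗ₜ[R] (1 : C)
    simp [Ψ]
  have hc : specHom str C = specMap str ψ ≫ specHom str A := Over.OverMorphism.ext (by
    change Spec.map _ = Spec.map _ ≫ Spec.map _
    rw [← Spec.map_comp, ← CommRingCat.ofHom_comp]
    exact congrArg (fun r => Spec.map (CommRingCat.ofHom r)) ψ.comp_algebraMap.symm)
  have hzk : k ∈ zA.asIdeal := (hJ z).1 hz hΨ
  have hqz : qA.left zA = (specMap str ψ).left (qC.left z) := by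
    show (specMap str Ψ ≫ qA).left z = (qC ≫ specMap str ψ).left z
    rw [hΨq]
  have hsp : qA.left zA ⤳ (tA : ↥(specOver str A).left) := by
    rw [hqz]
    exact htt'.map (specMap str ψ).left.continuous
  have hne : (tA : ↥(specOver str A).left) ≠ qA.left zA := fun e => contra zA hzk e.symm
  haveI : IsLocallyNoetherian (specOver str A).left :=
    inferInstanceAs (IsLocallyNoetherian (Spec (CommRingCat.of A)))
  haveI : LocallyOfFiniteType qA.left :=
    MorphismProperty.of_isPullback ((square A).map (Over.forget S)).flip hlft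
  obtain ⟨P, hP₁, hP₂⟩ := exists_specialization h𝒳 h𝒴 hval y₀ x α (specHom str A) (square A).w zA tA hsp hne
  let wA := bcChart π₀ x α (square A).w
  have hwA := smoothSurj_bcChart π₀ x α hx (square A)
  obtain ⟨b, rfl⟩ := surjective_ofChart (hP _ _).isStack.1 hwA.2 P
  rw [bcChart_fst] at hP₂
  refine contra b ?_ hP₂
  have hfib : Points.ofChart wA ⁻¹' {Points.ofChart wA zA} ⊆ {b : PrimeSpectrum (B ⊗[R] A) | k ∈ b.asIdeal} := by
    intro b' (hb' : Points.ofChart wA b' = Points.ofChart wA zA)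
    have hz0 : Points.map (bcMap π₀ hc) (Points.ofChart wC z) = Points.ofChart wA b' := by
      rw [hb']
      exact bcMap_bcChart π₀ x α hc (square A).w (square C).w (specMap str Ψ) hΨp hΨq z
    obtain ⟨z', hz', hzb⟩ := exists_lift π₀ x α hfp.isStack.1 hc (square A) (square C) (specMap str Ψ) hΨp hΨq
      (Points.ofChart wC z) b' hz0
    have hz'J : J ≤ (z' : PrimeSpectrum (B ⊗[R] C)).asIdeal := (hJ z').1 (by rw [hz']; exact hz)
    rw [← hzb]
    exact hz'J hΨ
  have hV' : IsClosed {b : PrimeSpectrum (B ⊗[R] A) | k ∈ b.asIdeal} := by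
    have : {b : PrimeSpectrum (B ⊗[R] A) | k ∈ b.asIdeal} = PrimeSpectrum.zeroLocus {k} :=
      Set.ext fun y => by simp [PrimeSpectrum.mem_zeroLocus]
    rw [this]
    exact PrimeSpectrum.isClosed_zeroLocus _
  refine closure_minimal hfib hV' ?_
  exact (isOpenMap_ofChart (hP _ _).isStack.1 hwA.1).preimage_closure_subset_closure_preimage
    (specializes_iff_mem_closure.1 hP₁)

end GrothLib.AlgSt.UnivClosedDVR
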