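import Groth.Agent.Lib.AlgSt.UnivClosedDVR.BaseChange
import Groth.Agent.Lib.DVRDom.Scheme
import Mathlib.RingTheory.DiscreteValuationRing.Basic

/-!
# Specializations on base changes from liftings along discrete valuation rings
-/

set_option backward.isDefEq.respectTransparency false
set_option backward.isDefEq.respectTransparency.types false

universe u

open CategoryTheory CategoryTheory.Limits AlgebraicGeometry Opposite IsLocalRing

namespace GrothLib.AlgSt.UnivClosedDVR

open _root_.AlgSt GrothLib.FibCat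

variable {S : Scheme.{u}} {𝒳 𝒴 : _root_.AlgSt.Cat S}

/-- The lifting condition of the valuative criterion with discrete valuation rings. -/
def DVRLifting (f : 𝒳 ⥤ᵇ 𝒴) : Prop :=
  ∀ (R : Type u) [CommRing R] [IsDomain R] [IsDiscreteValuationRing R]
    (sR : Spec (CommRingCat.of R) ⟶ S)
    (a : _root_.FibCat.overCat (Over.mk (Spec.map (CommRingCat.ofHom (algebraMap R (FractionRing R))) ≫ sR)) ⥤ᵇ 𝒳)
    (b : _root_.FibCat.overCat (Over.mk sR) ⥤ᵇ 𝒴)
    (α : BasedFunctor.comp a f ≅
      BasedFunctor.comp (_root_.AlgSt.overMap (Over.homMk (Spec.map (CommRingCat.ofHom (algebraMap R (FractionRing R)))) rfl :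
        Over.mk (Spec.map (CommRingCat.ofHom (algebraMap R (FractionRing R))) ≫ sR) ⟶ Over.mk sR)) b),
    ∃ (R' : Type u) (_ : CommRing R') (_ : IsDomain R') (_ : IsDiscreteValuationRing R') (φ : R →+* R')
      (_ : Function.Injective φ) (_ : IsLocalHom φ)
      (gψ : (Over.mk (Spec.map (CommRingCat.ofHom (algebraMap R' (FractionRing R'))) ≫
              Spec.map (CommRingCat.ofHom φ) ≫ sR) : Over S) ⟶
            Over.mk (Spec.map (CommRingCat.ofHom (algebraMap R (FractionRing R))) ≫ sR))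
      (c : _root_.FibCat.overCat (Over.mk (Spec.map (CommRingCat.ofHom φ) ≫ sR)) ⥤ᵇ _root_.FibCat.fp f b),
      gψ ≫ (Over.homMk (Spec.map (CommRingCat.ofHom (algebraMap R (FractionRing R)))) rfl :
          Over.mk (Spec.map (CommRingCat.ofHom (algebraMap R (FractionRing R))) ≫ sR) ⟶ Over.mk sR) =
        (Over.homMk (Spec.map (CommRingCat.ofHom (algebraMap R' (FractionRing R')))) rfl :
            Over.mk (Spec.map (CommRingCat.ofHom (algebraMap R' (FractionRing R'))) ≫
              Spec.map (CommRingCat.ofHom φ) ≫ sR) ⟶ Over.mk (Spec.map (CommRingCat.ofHom φ) ≫ sR)) ≫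
          (Over.homMk (Spec.map (CommRingCat.ofHom φ)) rfl :
            Over.mk (Spec.map (CommRingCat.ofHom φ) ≫ sR) ⟶ Over.mk sR) ∧
      Nonempty (BasedFunctor.comp c (_root_.FibCat.fpSnd f b) ≅
        _root_.AlgSt.overMap (Over.homMk (Spec.map (CommRingCat.ofHom φ)) rfl :
          Over.mk (Spec.map (CommRingCat.ofHom φ) ≫ sR) ⟶ Over.mk sR)) ∧
      Nonempty (BasedFunctor.comp
          (_root_.AlgSt.overMap (Over.homMk (Spec.map (CommRingCat.ofHom (algebraMap R' (FractionRing R')))) rfl :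
            Over.mk (Spec.map (CommRingCat.ofHom (algebraMap R' (FractionRing R'))) ≫
              Spec.map (CommRingCat.ofHom φ) ≫ sR) ⟶ Over.mk (Spec.map (CommRingCat.ofHom φ) ≫ sR))) c ≅
        BasedFunctor.comp (_root_.AlgSt.overMap gψ)
          (_root_.FibCat.fpLift a
            (_root_.AlgSt.overMap (Over.homMk (Spec.map (CommRingCat.ofHom (algebraMap R (FractionRing R)))) rfl :
              Over.mk (Spec.map (CommRingCat.ofHom (algebraMap R (FractionRing R))) ≫ sR) ⟶ Over.mk sR)) α))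

variable {f : 𝒳 ⥤ᵇ 𝒴} {V₀ T U W : Over S}

set_option maxHeartbeats 1600000 in
/-- Specializations in a base scheme lift to the base change, given liftings along discrete valuation rings. -/
theorem exists_specialization (h𝒳 : IsAlgStack Scheme.etalePrecoverage 𝒳) (h𝒴 : IsAlgStack Scheme.etalePrecoverage 𝒴)
    (hval : DVRLifting f) (y₀ : _root_.FibCat.overCat V₀ ⥤ᵇ 𝒴)
    (x : _root_.FibCat.overCat U ⥤ᵇ _root_.FibCat.fp y₀ f) {h : U ⟶ V₀}
    (α : BasedFunctor.comp x (_root_.FibCat.fpFst y₀ f) ≅ _root_.AlgSt.overMap h) (c : T ⟶ V₀)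
    [IsLocallyNoetherian T.left] {q : W ⟶ T} {p : W ⟶ U} (e : q ≫ c = p ≫ h) [LocallyOfFiniteType q.left]
    (w : ↥W.left) (t : ↥T.left) (hwt : q.left w ⤳ t) (hne : t ≠ q.left w) :
    ∃ P : Points (_root_.FibCat.fp (_root_.AlgSt.overMap c) (_root_.FibCat.fpFst y₀ f)),
      Points.ofChart (bcChart (_root_.FibCat.fpFst y₀ f) x α e) w ⤳ P ∧
        pointOf (Points.map (_root_.FibCat.fpFst (_root_.AlgSt.overMap c) (_root_.FibCat.fpFst y₀ f)) P) = t := by
  obtain ⟨A, hA, hdvr, hclosed, hgen⟩ := GrothLib.DVRDom.exists_dvr_over q.left w t hwt hne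
  haveI := hdvr
  let π₀ := _root_.FibCat.fpFst y₀ f
  let K := FractionRing A
  let eK := FractionRing.algEquiv A (W.left.residueField w)
  let θ : Spec (CommRingCat.of K) ⟶ Spec (W.left.residueField w) :=
    Spec.map (CommRingCat.ofHom eK.symm.toAlgHom.toRingHom)
  have hθ : θ ≫ Spec.map (CommRingCat.ofHom A.subtype) = Spec.map (CommRingCat.ofHom (algebraMap A K)) := by
    rw [← Spec.map_comp]
    congr 1
    exact CommRingCat.hom_ext (RingHom.ext fun z => eK.symm.commutes z)
  let sR : Spec (CommRingCat.of A) ⟶ S := hA ≫ T.hom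
  let ι : Over.mk (Spec.map (CommRingCat.ofHom (algebraMap A K)) ≫ sR) ⟶ Over.mk sR :=
    Over.homMk (Spec.map (CommRingCat.ofHom (algebraMap A K))) rfl
  let gh : Over.mk sR ⟶ T := Over.homMk hA rfl
  have hw : (θ ≫ W.left.fromSpecResidueField w) ≫ q.left = Spec.map (CommRingCat.ofHom (algebraMap A K)) ≫ hA := by
    rw [← hθ, Category.assoc, Category.assoc, hgen]
  let gκ : Over.mk (Spec.map (CommRingCat.ofHom (algebraMap A K)) ≫ sR) ⟶ W :=
    Over.homMk (θ ≫ W.left.fromSpecResidueField w) (by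
      change (θ ≫ W.left.fromSpecResidueField w) ≫ W.hom = Spec.map _ ≫ hA ≫ T.hom
      rw [← Over.w q, ← Category.assoc (θ ≫ W.left.fromSpecResidueField w), hw, Category.assoc])
  have hgκ : gκ ≫ q = ι ≫ gh := Over.OverMorphism.ext hw
  let L := BasedFunctor.comp (_root_.AlgSt.overMap gκ) (BasedFunctor.comp (bcChart π₀ x α e)
    (_root_.FibCat.fpSnd (_root_.AlgSt.overMap c) π₀))
  let a := BasedFunctor.comp L (_root_.FibCat.fpSnd y₀ f)
  let b := BasedFunctor.comp (BasedFunctor.comp (_root_.AlgSt.overMap gh) (_root_.AlgSt.overMap c)) y₀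
  let kiso : BasedFunctor.comp L π₀ ≅
      BasedFunctor.comp (_root_.AlgSt.overMap ι) (BasedFunctor.comp (_root_.AlgSt.overMap gh) (_root_.AlgSt.overMap c)) :=
    (whiskerLeftIso (BasedFunctor.comp (_root_.AlgSt.overMap gκ) (bcChart π₀ x α e))
        (_root_.FibCat.fpIso (_root_.AlgSt.overMap c) π₀)).symm ≪≫
      whiskerRightIso (sliceSquareIso hgκ) (_root_.AlgSt.overMap c)
  let α' : BasedFunctor.comp a f ≅ BasedFunctor.comp (_root_.AlgSt.overMap ι) b :=
    (whiskerLeftIso L (_root_.FibCat.fpIso y₀ f)).symm ≪≫ whiskerRightIso kiso y₀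
  obtain ⟨R', iR', iD', iV', φ, -, hφ, gψ, l, hgψ, ⟨β₂⟩, ⟨β₃⟩⟩ := hval A sR a b α'
  letI := iR'
  haveI := iD'
  haveI := iV'
  haveI := hφ
  let inner : _root_.FibCat.fp f b ⥤ᵇ _root_.FibCat.fp y₀ f :=
    _root_.FibCat.fpLift
      (BasedFunctor.comp (_root_.FibCat.fpSnd f b)
        (BasedFunctor.comp (_root_.AlgSt.overMap gh) (_root_.AlgSt.overMap c)))
      (_root_.FibCat.fpFst f b) (_root_.FibCat.fpIso f b).symm
  let Θ : _root_.FibCat.fp f b ⥤ᵇ _root_.FibCat.fp (_root_.AlgSt.overMap c) π₀ :=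
    _root_.FibCat.fpLift (BasedFunctor.comp (_root_.FibCat.fpSnd f b) (_root_.AlgSt.overMap gh)) inner (Iso.refl _)
  let z := BasedFunctor.comp l Θ
  let ι' : Over.mk (Spec.map (CommRingCat.ofHom (algebraMap R' (FractionRing R'))) ≫
      Spec.map (CommRingCat.ofHom φ) ≫ sR) ⟶ Over.mk (Spec.map (CommRingCat.ofHom φ) ≫ sR) :=
    Over.homMk (Spec.map (CommRingCat.ofHom (algebraMap R' (FractionRing R')))) rfl
  let η : ↥(Over.mk (Spec.map (CommRingCat.ofHom (algebraMap R' (FractionRing R'))) ≫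
      Spec.map (CommRingCat.ofHom φ) ≫ sR)).left := closedPoint (FractionRing R')
  refine ⟨Points.ofChart z (closedPoint R' : ↥(Over.mk (Spec.map (CommRingCat.ofHom φ) ≫ sR)).left), ?_, ?_⟩
  · have hfp : IsAlgStack Scheme.etalePrecoverage (_root_.FibCat.fp y₀ f) :=
      isAlgStack_fp_of h𝒴.isStack h𝒴.diag (isAlgStack_overCat_jet V₀) h𝒳 y₀ f
    have hV := isAlgStack_overCat_jet V₀
    have hP := isAlgStack_fp_of hV.isStack hV.diag (isAlgStack_overCat_jet T) hfp (_root_.AlgSt.overMap c) π₀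
    have hsp : (ι'.left η : ↥(Over.mk (Spec.map (CommRingCat.ofHom φ) ≫ sR)).left) ⤳ closedPoint R' :=
      IsLocalRing.specializes_closedPoint _
    refine (Specializes.of_eq ?_).trans (hsp.map (continuous_ofChart hP.isStack.1 hP.atlas z))
    rw [← ofChart_overMap]
    have key : Points.ofChart (BasedFunctor.comp (_root_.AlgSt.overMap ι') z) η =
        Points.ofChart (BasedFunctor.comp (_root_.AlgSt.overMap gψ)
          (BasedFunctor.comp (_root_.FibCat.fpLift a (_root_.AlgSt.overMap ι) α') Θ)) η :=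
      ofChart_congr (whiskerRightIso β₃ Θ) η
    rw [key, ofChart_overMap]
    generalize gψ.left η = s
    have hs : gκ.left s = w := by
      change (θ ≫ W.left.fromSpecResidueField w) s = w
      rw [Scheme.Hom.comp_apply, Scheme.fromSpecResidueField_apply]
    refine (congrArg (Points.ofChart (bcChart π₀ x α e)) hs.symm).trans ?_
    rw [← ofChart_overMap]
    symm
    have this : ∀ o : (_root_.FibCat.overCat (Over.mk (Spec.map (CommRingCat.ofHom (algebraMap A K)) ≫ sR))).obj,
        Nonempty ((BasedFunctor.comp (_root_.FibCat.fpLift a (_root_.AlgSt.overMap ι) α') Θ).obj o ⟶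
          (BasedFunctor.comp (_root_.AlgSt.overMap gκ) (bcChart π₀ x α e)).obj o) := fun o => by
      refine ⟨Fp.homMk (isoApp (sliceSquareIso hgκ.symm) o).hom (Fp.homMk ((isoApp kiso o).inv) (𝟙 _) ?_) ?_⟩
      · change y₀.map (isoApp kiso o).inv ≫ (L.obj o).obj.iso.hom =
          (y₀.map (isoApp kiso o).inv ≫ (L.obj o).obj.iso.hom) ≫ f.map (𝟙 _)
        rw [f.map_id]
        exact (Category.comp_id _).symm
      · exact fp_w_of_lifts (F := _root_.AlgSt.overMap c) (G := π₀) _ _ _ _ (𝟙 o.left)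
          (isHomLift_isoApp (sliceSquareIso hgκ.symm) (x := o) rfl)
          ((Fp.isHomLift_iff _ _).2 (BasedNatTrans.isHomLift kiso.inv (a := o) rfl))
    exact Points.sound (rel_of_hom (Classical.choice (this _)))
  · rw [← ofChart_comp,
      ofChart_congr (show BasedFunctor.comp z (_root_.FibCat.fpFst (_root_.AlgSt.overMap c) π₀) ≅
        BasedFunctor.comp (_root_.AlgSt.overMap (Over.homMk (Spec.map (CommRingCat.ofHom φ)) rfl :
          Over.mk (Spec.map (CommRingCat.ofHom φ) ≫ sR) ⟶ Over.mk sR)) (_root_.AlgSt.overMap gh) from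
        whiskerRightIso β₂ (_root_.AlgSt.overMap gh)), ofChart_overMap,
      show Points.ofChart (_root_.AlgSt.overMap gh) ((Over.homMk (Spec.map (CommRingCat.ofHom φ)) rfl :
          Over.mk (Spec.map (CommRingCat.ofHom φ) ≫ sR) ⟶ Over.mk sR).left (closedPoint R')) =
        Points.ofChart (BasedFunctor.id (_root_.FibCat.overCat T)) (gh.left _) from
        ofChart_overMap gh (BasedFunctor.id (_root_.FibCat.overCat T)) _, pointOf_ofChart_id]
    change hA (Spec.map (CommRingCat.ofHom φ) (closedPoint R')) = t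
    rw [show Spec.map (CommRingCat.ofHom φ) (closedPoint R') = closedPoint A from IsLocalRing.comap_closedPoint φ]
    exact hclosed

end GrothLib.AlgSt.UnivClosedDVR
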