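import Groth.Agent.Lib.AlgSt.UnivClosedDVR.Affine

/-!
# Universal closedness from liftings along discrete valuation rings
-/

set_option backward.isDefEq.respectTransparency false
set_option backward.isDefEq.respectTransparency.types false

universe u

open CategoryTheory CategoryTheory.Limits AlgebraicGeometry Opposite

namespace GrothLib.AlgSt.UnivClosedDVR

open _root_.AlgSt GrothLib.FibCat GrothLib.AlgSp

variable {S : Scheme.{u}} {𝒳 𝒴 : _root_.AlgSt.Cat S}

/-- A quasi-compact morphism locally of finite type to a locally noetherian stack satisfying the lifting condition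
along discrete valuation rings is universally closed. -/
theorem isUnivClosed_of_dvrLifting (h𝒳 : IsAlgStack Scheme.etalePrecoverage 𝒳)
    (h𝒴 : IsAlgStack Scheme.etalePrecoverage 𝒴) (hn𝒴 : SmoothLocally (fun T => IsLocallyNoetherian T) 𝒴)
    (f : 𝒳 ⥤ᵇ 𝒴) (hqc : IsQuasiCompactMor Scheme.etalePrecoverage f)
    (hft : LocQ (AlgSp.LocP @LocallyOfFiniteType) f) (hval : DVRLifting f) :
    IsUnivClosed Scheme.etalePrecoverage f := by
  refine isUnivClosed_of_closedOver h𝒳 h𝒴 f fun T y => closedOver_local h𝒳 h𝒴 f y fun t => ?_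
  obtain ⟨V, w, hw, hws⟩ := h𝒴.atlas
  have : IsLocallyNoetherian V.left := hn𝒴 V w hw
  obtain ⟨V', c, l, hc, hcs, ⟨i⟩⟩ := exists_lift_chart y w hw hws
  obtain ⟨v, hv⟩ := hcs.surj t
  obtain ⟨_, ⟨O, hO, rfl⟩, hvO, -⟩ :=
    V.left.isBasis_affineOpens.exists_subset_of_mem_open (Set.mem_univ (l.left v)) isOpen_univ
  obtain ⟨_, ⟨W, hW, rfl⟩, hvW, hWO⟩ :=
    V'.left.isBasis_affineOpens.exists_subset_of_mem_open (show v ∈ l.left ⁻¹ᵁ O from hvO) (l.left ⁻¹ᵁ O).2
  let str : Spec (CommRingCat.of Γ(V.left, O)) ⟶ S := hO.fromSpec ≫ V.hom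
  have : IsNoetherianRing Γ(V.left, O) := IsLocallyNoetherian.component_noetherian ⟨O, hO⟩
  let j : Over.mk str ⟶ V := Over.homMk hO.fromSpec rfl
  have : IsOpenImmersion hO.fromSpec := inferInstance
  have : Etale j.left := inferInstanceAs (Etale hO.fromSpec)
  have hy₀ := repByAlgSpWith_etale_comp_chart (fun _ _ _ b a hb ha => locP_etale_comp b a hb ha) j hw
  letI : Algebra Γ(V.left, O) Γ(V'.left, W) := (l.left.appLE O W hWO).hom.toAlgebra
  have hlw : hW.fromSpec ≫ l.left =
      Spec.map (CommRingCat.ofHom (algebraMap Γ(V.left, O) Γ(V'.left, W))) ≫ hO.fromSpec :=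
    (IsAffineOpen.SpecMap_appLE_fromSpec l.left hO hW hWO).symm
  let e : specOver str Γ(V'.left, W) ⟶ V' := Over.homMk hW.fromSpec (by
    change hW.fromSpec ≫ V'.hom = Spec.map _ ≫ hO.fromSpec ≫ V.hom
    rw [← Over.w l, ← Category.assoc, hlw, Category.assoc])
  have hel : e ≫ l = specHom str Γ(V'.left, W) ≫ j := Over.OverMorphism.ext hlw
  refine ⟨_, e ≫ c, ?_, ?_, closedOver_of_iso h𝒳 h𝒴 f ?_
    (closedOver_affine h𝒳 h𝒴 f hqc hft hval str _ hy₀ Γ(V'.left, W))⟩
  · have : Smooth c.left := hc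
    exact c.left.isOpenMap.comp hW.fromSpec.isOpenEmbedding.isOpenMap
  · have hr : v ∈ Set.range hW.fromSpec := by rw [hW.range_fromSpec]; exact hvW
    obtain ⟨s, hs⟩ := hr
    exact ⟨s, (congrArg c.left hs).trans hv⟩
  · exact whiskerRightIso (sliceSquareIso hel.symm) w ≪≫ (whiskerLeftIso (_root_.AlgSt.overMap e) i).symm ≪≫
      whiskerRightIso (overMapCompIso e c) y

end GrothLib.AlgSt.UnivClosedDVR
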