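import Groth.Agent.Lib.AlgSt.Topology
import Groth.Agent.Lib.AlgSt.FpStackK
import Groth.Agent.Lib.AlgSt.EtaleAtlas
import Groth.Agent.Lib.AlgSt.QC
import Groth.Agent.Lib.AlgSt.DiagLFT

/-!
# Closedness of the base changes of a morphism of stacks, chart by chart
-/

set_option backward.isDefEq.respectTransparency false
set_option backward.isDefEq.respectTransparency.types false

universe v₂ u₂ v₃ u₃ u

open CategoryTheory CategoryTheory.Limits AlgebraicGeometry Opposite Topology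

namespace GrothLib.AlgSt.UnivClosedDVR

open _root_.AlgSt GrothLib.FibCat

variable {S : Scheme.{u}}

theorem isAlgStack_overCat_jet (U : Over S) :
    IsAlgStack Scheme.etalePrecoverage (_root_.FibCat.overCat U) :=
  ⟨isStack_jet_of_fppf (isAlgStack_overCat U).isStack, (isAlgStack_overCat U).diag, (isAlgStack_overCat U).atlas⟩

/-- The map of points is continuous as soon as both sides have atlases. -/
theorem continuous_points_map' {𝒳 : BasedCategory.{v₂, u₂} (Over S)} {𝒴 : BasedCategory.{v₃, u₃} (Over S)}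
    (h𝒳 : _root_.FibCat.IsFibGrpd 𝒳.p) (hx : HasAtlas (AlgSp.LocP @Smooth) 𝒳)
    (h𝒴 : _root_.FibCat.IsFibGrpd 𝒴.p) (hy : HasAtlas (AlgSp.LocP @Smooth) 𝒴) (f : 𝒳 ⥤ᵇ 𝒴) :
    Continuous (Points.map f) := by
  obtain ⟨U, x, hs, hj⟩ := hx
  rw [(isOpenQuotientMap_ofChart h𝒳 hs hj).isQuotientMap.continuous_iff]
  exact continuous_ofChart h𝒴 hy (BasedFunctor.comp x f)

theorem continuous_map_of_isAlgStack {K : Precoverage Scheme.{u}} {𝒳 𝒴 : _root_.AlgSt.Cat S}
    (h𝒳 : IsAlgStack K 𝒳) (h𝒴 : IsAlgStack K 𝒴) (f : 𝒳 ⥤ᵇ 𝒴) : Continuous (Points.map f) :=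
  continuous_points_map' h𝒳.isStack.1 h𝒳.atlas h𝒴.isStack.1 h𝒴.atlas f

variable {𝒳 𝒴 𝒵 : _root_.AlgSt.Cat S} {T : Over S}

/-- The map from the points of a base change over a scheme to the scheme. -/
noncomputable def baseFst (f : 𝒳 ⥤ᵇ 𝒴) (y : _root_.FibCat.overCat T ⥤ᵇ 𝒴)
    (q : Points (_root_.FibCat.fp y f)) : ↥T.left :=
  pointOf (Points.map (_root_.FibCat.fpFst y f) q)

/-- Over a test scheme, the base change of `f` is closed. -/
def ClosedOver (f : 𝒳 ⥤ᵇ 𝒴) (y : _root_.FibCat.overCat T ⥤ᵇ 𝒴) : Prop := IsClosedMap (baseFst f y)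

/-- The projection to a base change along a chart. -/
def chartProj (f : 𝒳 ⥤ᵇ 𝒴) (z : _root_.FibCat.overCat T ⥤ᵇ 𝒵) (g : 𝒵 ⥤ᵇ 𝒴) :
    _root_.FibCat.fp (BasedFunctor.comp z g) f ⥤ᵇ _root_.FibCat.fp g f :=
  _root_.FibCat.fpLift (BasedFunctor.comp (_root_.FibCat.fpFst (BasedFunctor.comp z g) f) z)
    (_root_.FibCat.fpSnd (BasedFunctor.comp z g) f) (_root_.FibCat.fpIso (BasedFunctor.comp z g) f)

/-- The preimage in a chart of the image of a base change. -/
theorem preimage_image (h𝒳 : _root_.FibCat.IsFibGrpd 𝒳.p) (h𝒴 : _root_.FibCat.IsFibGrpd 𝒴.p)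
    (h𝒵 : _root_.FibCat.IsFibGrpd 𝒵.p) (f : 𝒳 ⥤ᵇ 𝒴) (z : _root_.FibCat.overCat T ⥤ᵇ 𝒵) (g : 𝒵 ⥤ᵇ 𝒴)
    (E : Set (Points (_root_.FibCat.fp g f))) :
    Points.ofChart z ⁻¹' (Points.map (_root_.FibCat.fpFst g f) '' E) =
      baseFst f (BasedFunctor.comp z g) '' (Points.map (chartProj f z g) ⁻¹' E) := by
  ext t
  constructor
  · rintro ⟨e, he, het⟩
    obtain ⟨w, hw1, hw2⟩ := exists_points_fp (Fp.isFibGrpd h𝒵 h𝒳 h𝒴) (isFibGrpd_overCat T) h𝒵
      (_root_.FibCat.fpFst g f) z (Points.ofChart (BasedFunctor.id (_root_.FibCat.overCat T)) t) e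
      ((ofChart_eq_map z t).symm.trans het.symm)
    refine ⟨Points.map (Fp.paste f g z) w, ?_, ?_⟩
    · have hQ : Points.map (chartProj f z g) (Points.map (Fp.paste f g z) w) =
          Points.map (_root_.FibCat.fpSnd z (_root_.FibCat.fpFst g f)) w := by
        obtain ⟨o, rfl⟩ := Points.mk_surjective w
        refine Points.sound (rel_of_hom (r := ((o.map (Fp.paste f g z)).map (chartProj f z g)))
          (p := o.map (_root_.FibCat.fpSnd z (_root_.FibCat.fpFst g f))) (Fp.homMk o.obj.obj.iso.hom (𝟙 _) ?_))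
        change g.map o.obj.obj.iso.hom ≫ o.obj.obj.snd.obj.iso.hom =
          (g.map o.obj.obj.iso.hom ≫ o.obj.obj.snd.obj.iso.hom) ≫ f.map (𝟙 _)
        rw [f.map_id]
        exact (Category.comp_id _).symm
      rw [Set.mem_preimage, hQ, hw2]
      exact he
    · have h1 : Points.map (_root_.FibCat.fpFst (BasedFunctor.comp z g) f) (Points.map (Fp.paste f g z) w) =
          Points.map (_root_.FibCat.fpFst z (_root_.FibCat.fpFst g f)) w := by
        obtain ⟨o, rfl⟩ := Points.mk_surjective w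
        rfl
      rw [baseFst, h1, hw1, pointOf_ofChart_id]
  · rintro ⟨q, hq, rfl⟩
    refine ⟨Points.map (chartProj f z g) q, hq, ?_⟩
    rw [baseFst, ← map_eq_ofChart_pointOf]
    obtain ⟨o, rfl⟩ := Points.mk_surjective q
    rfl

variable {K : Precoverage Scheme.{u}}

/-- Universal closedness is tested on schemes. -/
theorem isUnivClosed_of_closedOver (h𝒳 : IsAlgStack Scheme.etalePrecoverage 𝒳)
    (h𝒴 : IsAlgStack Scheme.etalePrecoverage 𝒴) (f : 𝒳 ⥤ᵇ 𝒴)
    (h : ∀ (T : Over S) (y : _root_.FibCat.overCat T ⥤ᵇ 𝒴), ClosedOver f y) :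
    IsUnivClosed Scheme.etalePrecoverage f := by
  intro 𝒲 h𝒲 g E hE
  rw [← isOpen_compl_iff, Points.isOpen_iff]
  intro T z _
  rw [Set.preimage_compl, preimage_image h𝒳.isStack.1 h𝒴.isStack.1 h𝒲.isStack.1, isOpen_compl_iff]
  exact h T _ _ (hE.preimage (continuous_map_of_isAlgStack
    (isAlgStack_fp_of h𝒴.isStack h𝒴.diag (isAlgStack_overCat_jet T) h𝒳 _ f)
    (isAlgStack_fp_of h𝒴.isStack h𝒴.diag h𝒲 h𝒳 g f) _))

/-- Closedness transfers along a bijection of base changes over the test scheme. -/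
theorem closedOver_of_bijective (f : 𝒳 ⥤ᵇ 𝒴) (y : _root_.FibCat.overCat T ⥤ᵇ 𝒴) {α : Type*} [TopologicalSpace α]
    (m : α → Points (_root_.FibCat.fp y f)) (hm : Continuous m) (hs : Function.Surjective m) {F : α → ↥T.left}
    (hF : ∀ a, baseFst f y (m a) = F a) (h : IsClosedMap F) : ClosedOver f y := by
  intro E hE
  rw [← hs.image_preimage E, Set.image_image]
  simp only [hF]
  exact h _ (hE.preimage hm)

theorem closedOver_of_iso (h𝒳 : IsAlgStack Scheme.etalePrecoverage 𝒳) (h𝒴 : IsAlgStack Scheme.etalePrecoverage 𝒴)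
    (f : 𝒳 ⥤ᵇ 𝒴) {y y' : _root_.FibCat.overCat T ⥤ᵇ 𝒴} (i : y ≅ y') (h : ClosedOver f y) : ClosedOver f y' := by
  refine closedOver_of_bijective f y' (Points.map (Fp.congr i (Iso.refl f)))
    (continuous_map_of_isAlgStack (isAlgStack_fp_of h𝒴.isStack h𝒴.diag (isAlgStack_overCat_jet T) h𝒳 y f)
      (isAlgStack_fp_of h𝒴.isStack h𝒴.diag (isAlgStack_overCat_jet T) h𝒳 y' f) _)
    (points_map_bijective_of_isEquivOver (Fp.isFibGrpd (isFibGrpd_overCat T) h𝒳.isStack.1 h𝒴.isStack.1)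
      _ (Fp.isEquivOver_congr _ _)).2 (fun a => ?_) h
  obtain ⟨o, rfl⟩ := Points.mk_surjective a
  rfl

/-- Closedness is local for open maps onto the test scheme. -/
theorem closedOver_local (h𝒳 : IsAlgStack Scheme.etalePrecoverage 𝒳) (h𝒴 : IsAlgStack Scheme.etalePrecoverage 𝒴)
    (f : 𝒳 ⥤ᵇ 𝒴) (y : _root_.FibCat.overCat T ⥤ᵇ 𝒴)
    (h : ∀ t : ↥T.left, ∃ (T' : Over S) (c : T' ⟶ T), IsOpenMap c.left ∧ t ∈ Set.range c.left ∧
      ClosedOver f (BasedFunctor.comp (_root_.AlgSt.overMap c) y)) : ClosedOver f y := by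
  intro E hE
  rw [← isOpen_compl_iff, isOpen_iff_forall_mem_open]
  intro t ht
  obtain ⟨T', c, hc, ⟨t', rfl⟩, hcl⟩ := h t
  have hpre : c.left ⁻¹' (baseFst f y '' E) = baseFst f (BasedFunctor.comp (_root_.AlgSt.overMap c) y) ''
      (Points.map (chartProj f (_root_.AlgSt.overMap c) y) ⁻¹' E) := by
    rw [← preimage_image h𝒳.isStack.1 h𝒴.isStack.1 (isFibGrpd_overCat T)]
    ext s
    rw [Set.mem_preimage, Set.mem_preimage,
      show Points.ofChart (_root_.AlgSt.overMap c) s =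
        Points.ofChart (BasedFunctor.id (_root_.FibCat.overCat T)) (c.left s) from
        ofChart_overMap c (BasedFunctor.id (_root_.FibCat.overCat T)) s]
    constructor
    · rintro ⟨e, he, hes⟩
      exact ⟨e, he, (pointOf_bijective T).1 (by rw [pointOf_ofChart_id]; exact hes)⟩
    · rintro ⟨e, he, hes⟩
      exact ⟨e, he, by rw [baseFst, hes, pointOf_ofChart_id]⟩
  have hcl' : IsClosed (c.left ⁻¹' (baseFst f y '' E)) := by
    rw [hpre]
    exact hcl _ (hE.preimage (continuous_map_of_isAlgStack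
      (isAlgStack_fp_of h𝒴.isStack h𝒴.diag (isAlgStack_overCat_jet T') h𝒳 _ f)
      (isAlgStack_fp_of h𝒴.isStack h𝒴.diag (isAlgStack_overCat_jet T) h𝒳 y f) _))
  refine ⟨c.left '' (c.left ⁻¹' (baseFst f y '' E))ᶜ, ?_, hc _ hcl'.isOpen_compl, t', ht, rfl⟩
  rintro _ ⟨s, hs, rfl⟩
  exact hs

end GrothLib.AlgSt.UnivClosedDVR
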